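import Groth.Agent.Lib.GeomIrrNorm2.Basic
import Groth.Agent.Lib.UnrMono.NormalizationIso
import Groth.Agent.Lib.TFCurv11.NodePush
import Groth.Agent.Lib.CurvePI4.Chart

/-! # A smooth normalisation commutes with field extensions -/

set_option autoImplicit false
set_option linter.all false
set_option backward.isDefEq.respectTransparency false

universe u

open CategoryTheory CategoryTheory.Limits AlgebraicGeometry TopologicalSpace

noncomputable section

namespace GrothLib.GeomIrrNorm2

/-- The normalisation of a geometrically irreducible integral scheme is geometrically irreducible. -/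
theorem geometricallyIrreducible_normalization' {K : Type u} [Field K] {X : Scheme.{u}} [IsIntegral X]
    [QuasiCompact (X.fromSpecStalk (genericPoint X))] [QuasiSeparated (X.fromSpecStalk (genericPoint X))]
    (q : X ⟶ Spec (CommRingCat.of K)) [GeometricallyIrreducible q] {V : X.Opens} (hne : (V : Set X).Nonempty)
    (hiso : IsIso (Curv2.normalizationι X ∣_ V)) :
    GeometricallyIrreducible (Curv2.normalizationι X ≫ q) := by
  haveI := hiso
  obtain ⟨v, hv⟩ := hne
  obtain ⟨y, -⟩ := (Curv2.normalizationι X ∣_ V).surjective ⟨v, hv⟩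
  haveI : IsIntegral (Curv2.normalization X) := by
    unfold Curv2.normalization
    infer_instance
  refine geometricallyIrreducible_of_dense _ q (Curv2.normalizationι X ⁻¹ᵁ V) ⟨y.1, y.2⟩
    ((Curv2.normalizationι X ⁻¹ᵁ V).isOpen.dense ⟨y.1, y.2⟩) ((Curv2.normalizationι X ∣_ V) ≫ V.ι) ?_ ?_
  · exact IsOpenImmersion.isOpen_range _
  · simp only [Category.assoc]
    exact morphismRestrict_ι_assoc _ V _

/-- A smooth normalisation commutes with field extensions. -/
theorem exists_iso_normalization_baseChange {K Ω : Type u} [Field K] [Field Ω] {X : Scheme.{u}} [IsIntegral X]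
    [QuasiCompact (X.fromSpecStalk (genericPoint X))] [QuasiSeparated (X.fromSpecStalk (genericPoint X))]
    (q : X ⟶ Spec (CommRingCat.of K)) [LocallyOfFiniteType q] [GeometricallyIrreducible q]
    (hsm : Smooth (Curv2.normalizationι X ≫ q)) (s : Spec (CommRingCat.of Ω) ⟶ Spec (CommRingCat.of K))
    [IsIntegral (pullback q s).nilradical.subscheme]
    [QuasiCompact ((pullback q s).nilradical.subscheme.fromSpecStalk (genericPoint (pullback q s).nilradical.subscheme))]
    [QuasiSeparated ((pullback q s).nilradical.subscheme.fromSpecStalk (genericPoint (pullback q s).nilradical.subscheme))]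
    (m : pullback (Curv2.normalizationι X ≫ q) s ⟶ pullback q s)
    (hm1 : m ≫ pullback.fst q s = pullback.fst _ _ ≫ Curv2.normalizationι X)
    (hm2 : m ≫ pullback.snd q s = pullback.snd _ _) :
    ∃ e : pullback (Curv2.normalizationι X ≫ q) s ≅ Curv2.normalization (pullback q s).nilradical.subscheme,
      e.hom ≫ Curv2.normalizationι (pullback q s).nilradical.subscheme ≫ (pullback q s).nilradical.subschemeι = m := by
  letI : X.Over (Spec (CommRingCat.of K)) := ⟨q⟩
  haveI : LocallyOfFiniteType (X ↘ Spec (CommRingCat.of K)) := ‹LocallyOfFiniteType q›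
  haveI hfin : IsFinite (Curv2.normalizationι X) := DeltaBC4.isFinite_normalizationι K X
  obtain ⟨V, hVne, hiso⟩ := NormFib.exists_isIso_of_finite hfin
  haveI := hiso
  haveI := geometricallyIrreducible_normalization' q hVne hiso
  haveI := hsm
  let P := pullback (Curv2.normalizationι X ≫ q) s
  haveI : Smooth (pullback.snd (Curv2.normalizationι X ≫ q) s) :=
    MorphismProperty.pullback_snd _ _ hsm
  haveI hP : IrreducibleSpace ↥P := GeometricallyIrreducible.geometrically_irreducibleSpace (f := Curv2.normalizationι X ≫ q) s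
    (pullback.fst _ _) (pullback.snd _ _) (IsPullback.of_hasPullback _ _)
  have hnorm : Pi1.IsNormalScheme P :=
    GrothLib.NodePush11.isNormalScheme_of_smooth (pullback.snd (Curv2.normalizationι X ≫ q) s)
  haveI : IsReduced P := GrothLib.NormFac9.isReduced_of_isNormal hnorm
  -- `m` is a base change of the normalisation
  have hsq : IsPullback (pullback.fst (Curv2.normalizationι X ≫ q) s) m (Curv2.normalizationι X) (pullback.fst q s) :=
    IsPullback.of_bot (by rw [hm2]; exact IsPullback.of_hasPullback _ _) hm1.symm (IsPullback.of_hasPullback q s)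
  haveI : IsFinite m := MorphismProperty.of_isPullback hsq hfin
  -- the lift to the reduction
  let ι := (pullback q s).nilradical.subschemeι
  haveI : Surjective ι := ⟨CurvePI4.surjective_subschemeι_nilradical (pullback q s)⟩
  haveI : IsClosedImmersion (pullback.fst m ι) := MorphismProperty.pullback_fst _ _ inferInstance
  haveI : Surjective (pullback.fst m ι) := MorphismProperty.pullback_fst _ _ ‹Surjective ι›
  haveI : IsIso (pullback.fst m ι) := isIso_of_isClosedImmersion_of_surjective _
  let f : P ⟶ (pullback q s).nilradical.subscheme := inv (pullback.fst m ι) ≫ pullback.snd m ι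
  have hf : f ≫ ι = m := by
    rw [Category.assoc, ← pullback.condition, IsIso.inv_hom_id_assoc]
  haveI : IsFinite f := by
    haveI : IsFinite (f ≫ ι) := by rw [hf]; infer_instance
    exact IsFinite.of_comp f ι
  -- the open set over which `f` is an isomorphism
  let W : (pullback q s).Opens := pullback.fst q s ⁻¹ᵁ V
  haveI hmW : IsIso (m ∣_ W) := by
    have h1 := ((isPullback_morphismRestrict m W).flip.paste_horiz hsq)
    have h2 := (isPullback_morphismRestrict (pullback.fst q s) V).flip
    have h3 : W.ι ≫ pullback.fst q s = (pullback.fst q s ∣_ V) ≫ V.ι := (morphismRestrict_ι _ _).symm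
    have h4 := (isPullback_morphismRestrict (Curv2.normalizationι X) V).flip
    rw [h3] at h1
    exact MorphismProperty.of_isPullback (P := MorphismProperty.isomorphisms Scheme) (IsPullback.of_right' h1 h4) hiso
  let O : (pullback q s).nilradical.subscheme.Opens := ι ⁻¹ᵁ W
  haveI hfO : IsIso (f ∣_ O) := by
    have h : (f ∣_ O) ≫ (ι ∣_ W) = (P.isoOfEq (show f ⁻¹ᵁ O = m ⁻¹ᵁ W by rw [← hf]; rfl)).hom ≫ (m ∣_ W) := by
      rw [← cancel_mono W.ι]
      simp only [O, Category.assoc, morphismRestrict_ι, morphismRestrict_ι_assoc, Scheme.isoOfEq_hom_ι_assoc]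
      rw [hf]
    haveI : IsIso ((f ∣_ O) ≫ (ι ∣_ W)) := by rw [h]; infer_instance
    haveI : IsSplitEpi (ι ∣_ W) := IsSplitEpi.mk' ⟨inv ((f ∣_ O) ≫ (ι ∣_ W)) ≫ (f ∣_ O), by
      rw [Category.assoc, IsIso.inv_hom_id]⟩
    haveI : IsIso (ι ∣_ W) := isIso_of_mono_of_isSplitEpi _
    exact IsIso.of_isIso_comp_right (f ∣_ O) (ι ∣_ W)
  have hOne : Nonempty ↥O := by
    obtain ⟨v, hv⟩ := hVne
    haveI : Surjective s := ⟨fun x => ⟨Classical.arbitrary ↥(Spec (CommRingCat.of Ω)),
      Subsingleton.elim (α := PrimeSpectrum K) _ _⟩⟩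
    haveI : Surjective (pullback.fst q s) := MorphismProperty.pullback_fst _ _ inferInstance
    obtain ⟨w, hw⟩ := (pullback.fst q s).surjective v
    obtain ⟨z, hz⟩ := ι.surjective w
    exact ⟨⟨z, show pullback.fst q s (ι z) ∈ V by rw [hz, hw]; exact hv⟩⟩
  obtain ⟨p, -⟩ := (f ∣_ O).surjective hOne.some
  have hgen : genericPoint P ∈ f ⁻¹ᵁ O :=
    ((genericPoint_spec P).mem_open_set_iff (f ⁻¹ᵁ O).isOpen).2 ⟨p.1, trivial, p.2⟩
  haveI : Nonempty ↥(f ⁻¹ᵁ O) := ⟨p⟩
  haveI : IsIntegral P := isIntegral_of_irreducibleSpace_of_isReduced P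
  haveI : Nonempty ↥((f ⁻¹ᵁ O).toScheme) := ⟨p⟩
  haveI : IsIntegral (f ⁻¹ᵁ O).toScheme := isIntegral_of_isOpenImmersion (f ⁻¹ᵁ O).ι
  have e1 := genericPoint_eq_of_isOpenImmersion (f ⁻¹ᵁ O).ι
  have e2 := genericPoint_eq_of_isOpenImmersion ((f ∣_ O) ≫ O.ι)
  have hη : f (genericPoint P) = genericPoint (pullback q s).nilradical.subscheme := by
    rw [← e1, ← e2, ← Scheme.Hom.comp_apply, morphismRestrict_ι]
  have hst : IsIso (f.stalkMap (genericPoint P)) :=
    ((MorphismProperty.isomorphisms CommRingCat).arrow_mk_iso_iff (morphismRestrictStalkMap f O ⟨_, hgen⟩)).1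
      (inferInstance : IsIso ((f ∣_ O).stalkMap ⟨_, hgen⟩))
  obtain ⟨e, he⟩ := UnrMono.exists_iso_normalization f hnorm inferInstance hη hst
  exact ⟨e, by rw [reassoc_of% he]; exact hf⟩

end GrothLib.GeomIrrNorm2
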