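import Groth.Prelude.Def_Curv2
import Groth.Agent.Lib.DeltaBC4.GeomReg
import Groth.Agent.Lib.AlgSp.FieldBase
import Groth.Agent.Lib.CurveMult.HyperAff
import Groth.Agent.Lib.Rigidity.Relative.Hom
import Mathlib

/-! # Geometric irreducibility of normalisations -/

set_option autoImplicit false
set_option linter.all false
set_option backward.isDefEq.respectTransparency false

universe u

open CategoryTheory CategoryTheory.Limits AlgebraicGeometry TopologicalSpace

noncomputable section

namespace GrothLib.GeomIrrNorm2

/-- A scheme over a field with a dense open immersed with open image into a geometrically irreducible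
scheme is geometrically irreducible. -/
theorem geometricallyIrreducible_of_dense {K : Type u} [Field K] {Y X : Scheme.{u}}
    (pY : Y ⟶ Spec (CommRingCat.of K)) (pX : X ⟶ Spec (CommRingCat.of K)) [GeometricallyIrreducible pX]
    (U : Y.Opens) (hne : (U : Set Y).Nonempty) (hU : Dense (U : Set Y)) (j : (U : Scheme.{u}) ⟶ X) [IsImmersion j]
    (hj : IsOpen (Set.range j)) (w : j ≫ pX = U.ι ≫ pY) : GeometricallyIrreducible pY := by
  refine ⟨fun L _ t Z a b H => ?_⟩
  haveI : IrreducibleSpace ↥(pullback pX t) := GeometricallyIrreducible.geometrically_irreducibleSpace t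
    (pullback.fst pX t) (pullback.snd pX t) (IsPullback.of_hasPullback pX t)
  haveI : UniversallyOpen t := GrothLib.AlgSp.universallyOpen_to_field t
  -- the open piece inside the base change of `X`
  let P := pullback j (pullback.fst pX t)
  let jL : P ⟶ pullback pX t := pullback.snd _ _
  have hjr : Set.range jL = pullback.fst pX t ⁻¹' Set.range j := Scheme.Pullback.range_snd _ _
  have hjo : Topology.IsOpenEmbedding jL := ⟨jL.isEmbedding, hjr ▸ hj.preimage (pullback.fst pX t).continuous⟩
  -- the same piece inside the base change of `Y`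
  let Q := pullback U.ι a
  let iL : Q ⟶ Z := pullback.snd _ _
  have hir : Set.range iL = a ⁻¹' (U : Set Y) := by
    rw [Scheme.Pullback.range_snd, Scheme.Opens.range_ι]
  have H' : IsPullback (pullback.fst U.ι a) (iL ≫ b) (U.ι ≫ pY) t :=
    (IsPullback.of_hasPullback U.ι a).flip.paste_horiz H.flip |>.flip
  let ε : P ≅ Q := pullbackRightPullbackFstIso pX t j ≪≫ pullback.congrHom w rfl ≪≫ H'.isoPullback.symm
  haveI : UniversallyOpen a := MorphismProperty.of_isPullback H.flip (inferInstanceAs (UniversallyOpen t))
  have ha : IsOpenMap a := Scheme.Hom.isOpenMap a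
  have hdense : DenseRange iL := by
    rw [DenseRange, hir]
    exact hU.preimage ha
  have hQne : Nonempty ↥Q := by
    obtain ⟨u, hu⟩ := hne
    haveI : Surjective a := MorphismProperty.of_isPullback H.flip
      (show Surjective t from ⟨fun x => ⟨Classical.arbitrary ↥(Spec (CommRingCat.of L)),
        Subsingleton.elim (α := PrimeSpectrum K) _ _⟩⟩)
    obtain ⟨z, hz⟩ := a.surjective u
    obtain ⟨q, -⟩ : z ∈ Set.range iL := by rw [hir]; show a z ∈ U; rwa [hz]
    exact ⟨q⟩
  haveI : Nonempty ↥P := ⟨ε.inv hQne.some⟩
  haveI : IrreducibleSpace ↥P := by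
    haveI : PreirreducibleSpace ↥P := by
      refine ⟨?_⟩
      have h := (PreirreducibleSpace.isPreirreducible_univ (X := ↥(pullback pX t))).preimage hjo
      rwa [Set.preimage_univ] at h
    exact ⟨inferInstance⟩
  haveI : IrreducibleSpace ↥Q := ε.hom.homeomorph.irreducibleSpace_iff.1 inferInstance
  haveI : Nonempty ↥Z := ⟨iL hQne.some⟩
  have h1 := ((PreirreducibleSpace.isPreirreducible_univ (X := ↥Q)).image iL iL.continuous.continuousOn).closure
  rw [Set.image_univ, hdense.closure_range] at h1
  exact { isPreirreducible_univ := h1, toNonempty := inferInstance }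

/-- The normalisation of the reduction of a geometrically irreducible scheme is geometrically
irreducible. -/
theorem geometricallyIrreducible_normalization {K : Type u} [Field K] {W : Scheme.{u}}
    (q : W ⟶ Spec (CommRingCat.of K)) [LocallyOfFiniteType q] [GeometricallyIrreducible q]
    [IsIntegral W.nilradical.subscheme]
    [QuasiCompact (W.nilradical.subscheme.fromSpecStalk (genericPoint W.nilradical.subscheme))]
    [QuasiSeparated (W.nilradical.subscheme.fromSpecStalk (genericPoint W.nilradical.subscheme))] :
    GeometricallyIrreducible (Curv2.normalizationι W.nilradical.subscheme ≫ W.nilradical.subschemeι ≫ q) ∧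
      IsFinite (Curv2.normalizationι W.nilradical.subscheme) := by
  letI : W.nilradical.subscheme.Over (Spec (CommRingCat.of K)) := ⟨W.nilradical.subschemeι ≫ q⟩
  haveI : LocallyOfFiniteType (W.nilradical.subscheme ↘ Spec (CommRingCat.of K)) :=
    inferInstanceAs (LocallyOfFiniteType (W.nilradical.subschemeι ≫ q))
  let ν := Curv2.normalizationι W.nilradical.subscheme
  have hfin : IsFinite ν := DeltaBC4.isFinite_normalizationι K W.nilradical.subscheme
  refine ⟨?_, hfin⟩
  obtain ⟨V, ⟨v, hv⟩, hiso⟩ := NormFib.exists_isIso_of_finite hfin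
  haveI := hiso
  obtain ⟨y, hy⟩ := (ν ∣_ V).surjective ⟨v, hv⟩
  haveI : IsIntegral (Curv2.normalization W.nilradical.subscheme) := by
    unfold Curv2.normalization
    infer_instance
  refine geometricallyIrreducible_of_dense _ q (ν ⁻¹ᵁ V) ⟨y.1, y.2⟩
    ((ν ⁻¹ᵁ V).isOpen.dense ⟨y.1, y.2⟩) ((ν ∣_ V) ≫ V.ι ≫ W.nilradical.subschemeι) ?_ ?_
  · have h : Set.range ((ν ∣_ V) ≫ V.ι ≫ W.nilradical.subschemeι) = W.nilradical.subschemeι '' (V : Set _) := by
      have hs : Function.Surjective (ν ∣_ V) := (ν ∣_ V).surjective
      rw [Scheme.Hom.comp_base, TopCat.coe_comp, hs.range_comp, Scheme.Hom.comp_base, TopCat.coe_comp,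
        Set.range_comp, Scheme.Opens.range_ι]
    rw [h]
    have hh : IsHomeomorph W.nilradical.subschemeι :=
      isHomeomorph_iff_isEmbedding_surjective.2 ⟨W.nilradical.subschemeι.isEmbedding, by
        rw [← Set.range_eq_univ, Scheme.IdealSheafData.range_subschemeι, Scheme.support_nilradical]
        rfl⟩
    exact hh.isOpenMap _ V.isOpen
  · simp only [Category.assoc]
    exact morphismRestrict_ι_assoc ν V _

end GrothLib.GeomIrrNorm2
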